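import Cfsg.Agent.H341.ThreeList_m3
import Cfsg.Agent.H514.DP.Cyc_m3
import Cfsg.Agent.LieClassical.OrthFinite
import Cfsg.Agent.ClassicalGeometry.OrthAut1
import Cfsg.Agent.FastGrp
import Cfsg.Agent.Prune
set_option linter.all false

section
prune_inst 0x7f00000000000000000000000000000000000000000000000000000000000000000000000000000000000000000000000000000000000000000000000000000000000000000000000000000000000000003fffffffffffffffffffffffffffbeffbdebfeffff

-- part: H367/Rg/Gluck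
section
set_option linter.all false
open scoped Cfsg.Agent.FastGrp

/-!
# S5714, X1: an elementary bound for character ratios (helper367)

`rat_of_lrg` : long root groups `X` (conjugates intersect trivially, connected by at most `c` steps, products of
nontrivial elements of two different ones are of level one) bound all character ratios of the simple group `T`.
-/

set_option autoImplicit false
set_option linter.unusedSectionVars false

namespace Cfsg.Agent.H367.Rg.Gluck

open Cfsg Cfsg.Agent.H141.Rg Module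
open Cfsg.Agent.Characters

universe u v

/-! ### conjugates of a subgroup -/

section Cj

variable {G : Type u} [Group G]

theorem mem_cj {X : Subgroup G} {g x : G} : x ∈ cj X g ↔ g⁻¹ * x * g ∈ X := by
  constructor
  · rintro ⟨y, hy, rfl⟩
    have : g⁻¹ * (g * y * g⁻¹) * g = y := by group
    show g⁻¹ * (g * y * g⁻¹) * g ∈ X
    rw [this]
    exact hy
  · intro h
    refine ⟨_, h, ?_⟩
    show g * (g⁻¹ * x * g) * g⁻¹ = x
    group

theorem cj_cj (X : Subgroup G) (g h : G) : cj (cj X g) h = cj X (h * g) := by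
  ext x
  rw [mem_cj, mem_cj, mem_cj, mul_inv_rev]
  have : g⁻¹ * (h⁻¹ * x * h) * g = g⁻¹ * h⁻¹ * x * (h * g) := by group
  rw [this]

theorem cj_one (X : Subgroup G) : cj X 1 = X := by
  ext x
  rw [mem_cj, inv_one, one_mul, mul_one]

theorem card_cj (X : Subgroup G) (g : G) : Nat.card ↥(cj X g) = Nat.card ↥X :=
  (Nat.card_congr (X.equivMapOfInjective _ (MulAut.conj g).injective).toEquiv).symm

end Cj

/-! ### fixed spaces -/

section Fix

variable {G : Type u} [Group G] {V : Type v} [AddCommGroup V] [Module ℂ V] (ρ : Representation ℂ G V)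

/-- the vectors fixed by `H` -/
def fx (H : Subgroup G) : Submodule ℂ V where
  carrier := {v | ∀ h ∈ H, ρ h v = v}
  add_mem' := by
    intro a b ha hb h hh
    rw [map_add, ha h hh, hb h hh]
  zero_mem' := fun h _ => map_zero _
  smul_mem' := by
    intro c a ha h hh
    rw [map_smul, ha h hh]

theorem mem_fx {H : Subgroup G} {v : V} : v ∈ fx ρ H ↔ ∀ h ∈ H, ρ h v = v := Iff.rfl

/-- the stabiliser of a vector -/
def stab (v : V) : Subgroup G where
  carrier := {g | ρ g v = v}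
  mul_mem' := by
    intro a b ha hb
    show ρ (a * b) v = v
    rw [map_mul, Module.End.mul_apply, hb, ha]
  one_mem' := by
    show ρ 1 v = v
    rw [map_one]
    rfl
  inv_mem' := by
    intro a ha
    show ρ a⁻¹ v = v
    have h : ρ a⁻¹ (ρ a v) = v := by
      rw [← Module.End.mul_apply, ← map_mul, inv_mul_cancel, map_one]
      rfl
    have ha' : ρ a v = v := ha
    rw [ha'] at h
    exact h

theorem mem_fx' {H : Subgroup G} {v : V} : v ∈ fx ρ H ↔ H ≤ stab ρ v := Iff.rfl

theorem fx_anti {H K : Subgroup G} (h : H ≤ K) : fx ρ K ≤ fx ρ H := fun _ hv x hx => hv x (h hx)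

theorem fx_sup (H K : Subgroup G) : fx ρ (H ⊔ K) = fx ρ H ⊓ fx ρ K := by
  ext v
  rw [Submodule.mem_inf, mem_fx', mem_fx', mem_fx', sup_le_iff]

theorem fx_bot : fx ρ ⊥ = ⊤ := by
  rw [eq_top_iff]
  intro v _ h hh
  rw [Subgroup.mem_bot.1 hh, map_one]
  rfl

variable [FiniteDimensional ℂ V]

theorem finrank_fx_cj_le (X : Subgroup G) (g : G) : finrank ℂ (fx ρ (cj X g)) ≤ finrank ℂ (fx ρ X) := by
  have h1 : fx ρ (cj X g) ≤ (fx ρ X).map (ρ g) := by
    intro v hv
    refine ⟨ρ g⁻¹ v, ?_, ?_⟩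
    · intro x hx
      have h2 := hv (g * x * g⁻¹) (mem_cj.2 (by simpa [mul_assoc] using hx))
      have h3 : ρ x (ρ g⁻¹ v) = ρ g⁻¹ (ρ (g * x * g⁻¹) v) := by
        rw [← Module.End.mul_apply, ← Module.End.mul_apply, ← map_mul, ← map_mul]
        congr 2
        group
      rw [h3, h2]
    · rw [← Module.End.mul_apply, ← map_mul, mul_inv_cancel, map_one]
      rfl
  exact (Submodule.finrank_mono h1).trans (Submodule.finrank_map_le _ _)

theorem finrank_fx_cj (X : Subgroup G) (g : G) : finrank ℂ (fx ρ (cj X g)) = finrank ℂ (fx ρ X) := by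
  refine le_antisymm (finrank_fx_cj_le ρ X g) ?_
  have h := finrank_fx_cj_le ρ (cj X g) g⁻¹
  rwa [cj_cj, inv_mul_cancel, cj_one] at h

theorem finrank_invariants {Q : Type*} [Group Q] [Fintype Q] (τ : Representation ℂ Q V) :
    (Fintype.card Q : ℂ)⁻¹ * ∑ g : Q, LinearMap.trace ℂ V (τ g) = (Module.finrank ℂ τ.invariants : ℂ) := by
  classical
  have hc : (Fintype.card Q : ℂ) ≠ 0 := by
    have : 0 < Fintype.card Q := Fintype.card_pos
    exact_mod_cast this.ne'
  have hinv : Invertible (Fintype.card Q : ℂ) := invertibleOfNonzero hc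
  rw [← (Representation.isProj_averageMap τ).trace]
  simp only [Representation.averageMap, GroupAlgebra.average, map_sum, _root_.invOf_eq_inv, _root_.MonoidAlgebra.of_apply, _root_.map_smul, _root_.Representation.asAlgebraHom_single, _root_.one_smul, _root_.smul_eq_mul]

theorem sum_char (H : Subgroup G) [Fintype H] :
    ∑ h : H, (ρ.character (h : G)) = (Nat.card H : ℂ) * finrank ℂ (fx ρ H) := by
  have h1 := finrank_invariants (ρ.comp H.subtype)
  have hc : (Fintype.card H : ℂ) ≠ 0 := by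
    have : 0 < Fintype.card H := Fintype.card_pos
    exact_mod_cast this.ne'
  rw [inv_mul_eq_iff_eq_mul₀ hc] at h1
  have h2 : Representation.invariants (ρ.comp H.subtype) = fx ρ H := by
    ext v
    rw [Representation.mem_invariants]
    exact ⟨fun h x hx => h ⟨x, hx⟩, fun h x => h x x.2⟩
  rw [h2] at h1
  rw [Nat.card_eq_fintype_card, ← h1]
  rfl

theorem sum_char_re (H : Subgroup G) [Fintype H] :
    ∑ h : H, (ρ.character (h : G)).re = (Nat.card H : ℝ) * finrank ℂ (fx ρ H) := by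
  have h := congrArg Complex.re (sum_char ρ H)
  rw [Complex.re_sum] at h
  rw [h]
  have : ((Nat.card H : ℂ) * (finrank ℂ (fx ρ H) : ℂ)) = (((Nat.card H : ℝ) * (finrank ℂ (fx ρ H) : ℝ) : ℝ) : ℂ) := by
    push_cast
    rfl
  rw [this, Complex.ofReal_re]

theorem char_one : (ρ.character 1).re = finrank ℂ V := by
  rw [Representation.char_one, Complex.natCast_re]

/-- the codimension decreases -/
theorem codim_step {W P : Submodule ℂ V} (h : W ≤ P) (R : Submodule ℂ V) :
    (finrank ℂ W : ℝ) - finrank ℂ ↥(W ⊓ R) ≤ (finrank ℂ P : ℝ) - finrank ℂ ↥(P ⊓ R) := by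
  have h1 := Submodule.finrank_sup_add_finrank_inf_eq W R
  have h2 := Submodule.finrank_sup_add_finrank_inf_eq P R
  have h3 : finrank ℂ ↥(W ⊔ R) ≤ finrank ℂ ↥(P ⊔ R) := Submodule.finrank_mono (sup_le_sup_right h R)
  have h1' : (finrank ℂ ↥(W ⊔ R) : ℝ) + finrank ℂ ↥(W ⊓ R) = finrank ℂ W + finrank ℂ R := by exact_mod_cast h1
  have h2' : (finrank ℂ ↥(P ⊔ R) : ℝ) + finrank ℂ ↥(P ⊓ R) = finrank ℂ P + finrank ℂ R := by exact_mod_cast h2
  have h3' : (finrank ℂ ↥(W ⊔ R) : ℝ) ≤ finrank ℂ ↥(P ⊔ R) := by exact_mod_cast h3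
  linarith only [h1', h2', h3']

/-- chains -/
theorem codim_chain {δ : ℝ} {p : ℕ → Subgroup G} {l : ℕ}
    (h : ∀ i < l, (finrank ℂ (fx ρ (p i)) : ℝ) - finrank ℂ ↥(fx ρ (p i) ⊓ fx ρ (p (i + 1))) ≤ δ) :
    (finrank ℂ (fx ρ (p 0)) : ℝ) - finrank ℂ ↥(fx ρ (p 0) ⊓ fx ρ (p l)) ≤ l * δ := by
  have key : ∀ i ≤ l, ∃ W : Submodule ℂ V, W ≤ fx ρ (p 0) ∧ W ≤ fx ρ (p i) ∧
      (finrank ℂ (fx ρ (p 0)) : ℝ) - finrank ℂ W ≤ i * δ := by
    intro i
    induction i with
    | zero => intro _; exact ⟨_, le_rfl, le_rfl, by simp⟩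
    | succ i ih =>
      intro hi
      obtain ⟨W, h1, h2, h3⟩ := ih (by omega)
      refine ⟨W ⊓ fx ρ (p (i + 1)), inf_le_left.trans h1, inf_le_right, ?_⟩
      have h4 := codim_step h2 (fx ρ (p (i + 1)))
      have h5 := h i (by omega)
      push_cast
      linarith only [h3, h4, h5]
  obtain ⟨W, h1, h2, h3⟩ := key l le_rfl
  have h4 : (finrank ℂ W : ℝ) ≤ finrank ℂ ↥(fx ρ (p 0) ⊓ fx ρ (p l)) := by
    exact_mod_cast Submodule.finrank_mono (le_inf h1 h2)
  linarith

/-- **Adjacent long root groups.** -/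
theorem adj_bound [Finite G] {X A B : Subgroup G} (h : Adj X A B) :
    (finrank ℂ (fx ρ A) : ℝ) - finrank ℂ ↥(fx ρ A ⊓ fx ρ B) ≤ finrank ℂ V / Nat.card X := by
  classical
  have : Fintype G := Fintype.ofFinite G
  obtain ⟨S, Q, hA, hB, hconj, hcard, hdisj, hle, hQ⟩ := h
  set q := Nat.card X with hq
  have hq0 : 0 < q := Nat.card_pos
  set χ : G → ℝ := fun g => (ρ.character g).re with hχ
  have hfin : ∀ H : Subgroup G, ∑ g ∈ Finset.univ.filter (· ∈ H), χ g = (Nat.card H : ℝ) * finrank ℂ (fx ρ H) := by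
    intro H
    rw [← sum_char_re ρ H]
    exact Finset.sum_subtype _ (fun x => by simp) _
  have hcF : ∀ H : Subgroup G, (Finset.univ.filter (· ∈ H)).card = Nat.card H := by
    intro H
    rw [Nat.card_eq_fintype_card, Fintype.card_subtype]
  have hone : ∀ H : Subgroup G, (1 : G) ∈ Finset.univ.filter (· ∈ H) := fun H => by simp [H.one_mem]
  have hCq : ∀ C ∈ S, Nat.card C = q := by
    intro C hC
    obtain ⟨g, rfl⟩ := hconj C hC
    exact card_cj X g
  have hCf : ∀ C ∈ S, finrank ℂ (fx ρ C) = finrank ℂ (fx ρ X) := by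
    intro C hC
    obtain ⟨g, rfl⟩ := hconj C hC
    exact finrank_fx_cj ρ X g
  have hpd : (S : Set (Subgroup G)).PairwiseDisjoint fun C => (Finset.univ.filter (· ∈ C)).erase (1 : G) := by
    intro C hC D hD hne
    rw [Function.onFun, Finset.disjoint_left]
    intro x hx hx'
    rw [Finset.mem_erase, Finset.mem_filter] at hx hx'
    have h1 : x ∈ C ⊓ D := ⟨hx.2.2, hx'.2.2⟩
    rw [hdisj C hC D hD hne, Subgroup.mem_bot] at h1
    exact hx.1 h1
  have hunion : S.biUnion (fun C => (Finset.univ.filter (· ∈ C)).erase (1 : G)) =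
      (Finset.univ.filter (· ∈ Q)).erase (1 : G) := by
    apply Finset.eq_of_subset_of_card_le
    · intro x hx
      rw [Finset.mem_biUnion] at hx
      obtain ⟨C, hC, hx⟩ := hx
      rw [Finset.mem_erase, Finset.mem_filter] at hx ⊢
      exact ⟨hx.1, hx.2.1, hle C hC hx.2.2⟩
    · rw [Finset.card_biUnion hpd, Finset.card_erase_of_mem (hone Q), hcF, hQ]
      have h1 : ∑ C ∈ S, ((Finset.univ.filter (· ∈ C)).erase (1 : G)).card = (q + 1) * (q - 1) := by
        rw [← hcard, ← smul_eq_mul, ← Finset.sum_const]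
        refine Finset.sum_congr rfl fun C hC => ?_
        rw [Finset.card_erase_of_mem (hone C), hcF, hCq C hC]
      rw [h1]
      obtain ⟨m, hm⟩ : ∃ m, q = m + 1 := ⟨q - 1, by omega⟩
      rw [hm, Nat.add_sub_cancel]
      have : (m + 1) ^ 2 = (m + 1 + 1) * m + 1 := by ring
      omega
  have hsum : (q : ℝ) ^ 2 * finrank ℂ (fx ρ Q) = (q + 1) * (q * finrank ℂ (fx ρ X)) - q * finrank ℂ V := by
    have e1 : ∑ g ∈ (Finset.univ.filter (· ∈ Q)).erase (1 : G), χ g = (q : ℝ) ^ 2 * finrank ℂ (fx ρ Q) - finrank ℂ V := by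
      rw [Finset.sum_erase_eq_sub (hone Q), hfin Q, hQ]
      push_cast
      rw [hχ]
      simp only
      rw [char_one]
    rw [← hunion, Finset.sum_biUnion hpd] at e1
    have e2 : ∑ C ∈ S, ∑ g ∈ (Finset.univ.filter (· ∈ C)).erase (1 : G), χ g =
        (q + 1) * (q * finrank ℂ (fx ρ X) - finrank ℂ V) := by
      have e3 : ∀ C ∈ S, ∑ g ∈ (Finset.univ.filter (· ∈ C)).erase (1 : G), χ g =
          q * finrank ℂ (fx ρ X) - finrank ℂ V := by
        intro C hC
        rw [Finset.sum_erase_eq_sub (hone C), hfin C, hCq C hC, hCf C hC, hχ]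
        simp only
        rw [char_one]
      rw [Finset.sum_congr rfl e3, Finset.sum_const, hcard, nsmul_eq_mul]
      push_cast
      ring
    rw [e2] at e1
    linarith only [e1]
  have hqr : (0 : ℝ) < q := by exact_mod_cast hq0
  have hQle : (finrank ℂ (fx ρ Q) : ℝ) ≤ finrank ℂ ↥(fx ρ A ⊓ fx ρ B) := by
    exact_mod_cast Submodule.finrank_mono (le_inf (fx_anti ρ (hle A hA)) (fx_anti ρ (hle B hB)))
  rw [hCf A hA, le_div_iff₀ hqr]
  have h2 : (q : ℝ) * finrank ℂ (fx ρ Q) = (q + 1) * finrank ℂ (fx ρ X) - finrank ℂ V := by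
    have := mul_left_cancel₀ hqr.ne' (a := (q : ℝ)) (b := q * finrank ℂ (fx ρ Q))
      (c := (q + 1) * finrank ℂ (fx ρ X) - finrank ℂ V) (by linarith only [hsum])
    exact this
  have h0 : (0 : ℝ) ≤ finrank ℂ (fx ρ X) := Nat.cast_nonneg _
  nlinarith only [hQle, h2]

theorem codim_conn [Finite G] {X : Subgroup G} {c : ℕ} (h : LRG X c) (g : G) :
    (finrank ℂ (fx ρ X) : ℝ) - finrank ℂ ↥(fx ρ X ⊓ fx ρ (cj X g)) ≤ c * (finrank ℂ V / Nat.card X) := by
  obtain ⟨l, p, hl, h0, hl', hadj⟩ := h.conn g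
  have h1 := codim_chain ρ (p := p) (l := l) (fun i hi => adj_bound ρ (hadj i hi))
  rw [h0, hl'] at h1
  refine h1.trans ?_
  gcongr

theorem exists_cj_not_le [IsSimpleGroup G] {X : Subgroup G} (hX : X ≠ ⊥) {H : Subgroup G} (hH : H ≠ ⊤) :
    ∃ g, ¬ cj X g ≤ H := by
  by_contra hcon
  push Not at hcon
  have h1 : Subgroup.normalClosure (X : Set G) ≤ H := by
    rw [Subgroup.normalClosure, Subgroup.closure_le]
    intro y hy
    rw [Group.mem_conjugatesOfSet_iff] at hy
    obtain ⟨a, ha, hay⟩ := hy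
    obtain ⟨c, rfl⟩ := isConj_iff.1 hay
    exact hcon c ⟨a, ha, rfl⟩
  rcases Subgroup.Normal.eq_bot_or_eq_top (Subgroup.normalClosure_normal (s := (X : Set G))) with h2 | h2
  · apply hX
    rw [eq_bot_iff, ← h2]
    exact Subgroup.subset_normalClosure
  · rw [h2] at h1
    exact hH (top_le_iff.1 h1)

theorem two_card_le [Finite G] {H K : Subgroup G} (h : H < K) : 2 * Nat.card H ≤ Nat.card K := by
  obtain ⟨m, hm⟩ := Subgroup.card_dvd_of_le h.le
  have h1 : 0 < Nat.card H := Nat.card_pos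
  have h2 : 0 < Nat.card K := Nat.card_pos
  have h3 : m ≠ 0 := by
    rintro rfl
    omega
  have h4 : m ≠ 1 := by
    rintro rfl
    rw [mul_one] at hm
    exact h.ne (Subgroup.eq_of_le_of_card_ge h.le hm.le)
  rw [hm, mul_comm]
  exact Nat.mul_le_mul_left _ (by omega)

/-- **The greedy argument.** -/
theorem finrank_fx_le [Finite G] [IsSimpleGroup G] {X : Subgroup G} {c : ℕ} (hX : 2 ≤ Nat.card X) (h : LRG X c)
    (htop : fx ρ ⊤ = ⊥) :
    (finrank ℂ (fx ρ X) : ℝ) ≤ Real.logb 2 (Nat.card G) * (c * (finrank ℂ V / Nat.card X)) := by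
  have hXb : X ≠ ⊥ := by
    rintro rfl
    rw [Subgroup.card_bot] at hX
    omega
  set d : ℝ := c * (finrank ℂ V / Nat.card X) with hd
  have hd0 : 0 ≤ d := by (clear * -; positivity)
  set P : Set (Subgroup G) := {H | (finrank ℂ (fx ρ X) : ℝ) - finrank ℂ ↥(fx ρ X ⊓ fx ρ H) ≤
    Real.logb 2 (Nat.card H) * d} with hP
  have hbot : (⊥ : Subgroup G) ∈ P := by
    show (finrank ℂ (fx ρ X) : ℝ) - finrank ℂ ↥(fx ρ X ⊓ fx ρ ⊥) ≤ Real.logb 2 (Nat.card (⊥ : Subgroup G)) * d
    rw [fx_bot, inf_top_eq, Subgroup.card_bot]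
    simp
  obtain ⟨H, hH⟩ := (Set.toFinite P).exists_maximal ⟨⊥, hbot⟩
  have hHt : H = ⊤ := by
    by_contra hne
    obtain ⟨g, hg⟩ := exists_cj_not_le hXb hne
    have hlt : H < H ⊔ cj X g := lt_of_le_of_ne le_sup_left fun he => hg (he ▸ le_sup_right)
    have hmem : H ⊔ cj X g ∈ P := by
      show (finrank ℂ (fx ρ X) : ℝ) - finrank ℂ ↥(fx ρ X ⊓ fx ρ (H ⊔ cj X g)) ≤
        Real.logb 2 (Nat.card ↥(H ⊔ cj X g)) * d
      rw [fx_sup, ← inf_assoc]
      have h1 := codim_step (inf_le_left : fx ρ X ⊓ fx ρ H ≤ fx ρ X) (fx ρ (cj X g))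
      have h2 := codim_conn ρ h g
      have h3 : (finrank ℂ (fx ρ X) : ℝ) - finrank ℂ ↥(fx ρ X ⊓ fx ρ H) ≤ Real.logb 2 (Nat.card H) * d := hH.prop
      have h4 : Real.logb 2 (Nat.card H) + 1 ≤ Real.logb 2 (Nat.card ↥(H ⊔ cj X g)) := by
        have h5 : (2 : ℝ) * Nat.card H ≤ Nat.card ↥(H ⊔ cj X g) := by exact_mod_cast two_card_le hlt
        have h6 : (0 : ℝ) < Nat.card H := by exact_mod_cast Nat.card_pos
        have h7 : Real.logb 2 (2 * Nat.card H) = 1 + Real.logb 2 (Nat.card H) := by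
          rw [Real.logb_mul two_ne_zero h6.ne', Real.logb_self_eq_one one_lt_two]
        rw [add_comm, ← h7]
        exact Real.logb_le_logb_of_le one_lt_two (by (clear * - h6; positivity)) h5
      nlinarith only [hd0, h1, h2, h3, h4]
    exact hlt.not_ge (hH.le_of_ge hmem hlt.le)
  have h1 : (finrank ℂ (fx ρ X) : ℝ) - finrank ℂ ↥(fx ρ X ⊓ fx ρ H) ≤ Real.logb 2 (Nat.card H) * d := hH.prop
  rw [hHt, htop, inf_bot_eq, finrank_bot, Subgroup.card_top] at h1
  simpa only [_root_.ge_iff_le, _root_.CharP.cast_eq_zero, _root_.sub_zero] using h1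

end Fix

/-! ### the bound -/

section Main

variable {T : Type u} [Group T] [Finite T] [IsSimpleGroup T]

omit [IsSimpleGroup T] in
theorem fx_top_eq_bot {n : ℕ} {ρ : Representation ℂ T (Fin n → ℂ)} (hρ : ρ.IsIrreducible)
    (hne : ∃ g, ρ.character g ≠ 1) : fx ρ ⊤ = ⊥ := by
  classical
  have : Fintype T := Fintype.ofFinite T
  have hχ : IsIrrCharacter T ρ.character := ⟨n, ρ, hρ, rfl⟩
  have h1 := sum_char ρ (⊤ : Subgroup T)
  have h2 := Core.classInner_irr_ne hχ Core.isIrr_one (by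
    rintro he
    obtain ⟨g, hg⟩ := hne
    exact hg (congrFun he g))
  rw [Core.classInner_def, mul_eq_zero, or_iff_right (inv_ne_zero Core.card_ne_zero_complex)] at h2
  have h3 : ∑ h : (⊤ : Subgroup T), ρ.character (h : T) = 0 := by
    rw [← h2]
    refine Fintype.sum_equiv Subgroup.topEquiv.toEquiv _ _ fun x => ?_
    simp
  rw [h3, eq_comm, mul_eq_zero, or_iff_right Core.card_ne_zero_complex, Nat.cast_eq_zero,
    Submodule.finrank_eq_zero] at h1
  exact h1

/-- elements of level one -/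
theorem norm_le_of_lev {X : Subgroup T} {c : ℕ} (hX : 2 ≤ Nat.card X) (h : LRG X c) {χ : T → ℂ}
    (hχ : IsIrrCharacter T χ) (hne : ∃ g, χ g ≠ 1) {y : T} (hy : Lev X y) :
    ‖χ y‖ ≤ √(c * Real.logb 2 (Nat.card T) / (Nat.card X : ℝ)) * ‖χ 1‖ := by
  classical
  have : Fintype T := Fintype.ofFinite T
  obtain ⟨Y, k, hbij⟩ := hy
  obtain ⟨n, ρ, hρ, rfl⟩ := hχ
  refine Cfsg.Agent.H262.Rg.Ratio.norm_le_of_comm ⟨n, ρ, hρ, rfl⟩ Y y ?_
  have hX0 : (0 : ℝ) < Nat.card X := by exact_mod_cast Nat.card_pos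
  have e : Y ≃ cj X k := hbij.equiv _
  have hcard : (Fintype.card Y : ℝ) = Nat.card X := by
    rw [← Nat.card_eq_fintype_card, Nat.card_congr e, card_cj]
  have h1 : ∑ w : Y, (ρ.character (y * w * y⁻¹ * (w : T)⁻¹)).re = ∑ w : cj X k, (ρ.character (w : T)).re :=
    Fintype.sum_equiv (hbij.equiv _) _ _ fun x => rfl
  rw [h1, sum_char_re, card_cj, finrank_fx_cj, hcard, Representation.char_one, Complex.norm_natCast]
  have h2 := finrank_fx_le ρ hX h (fx_top_eq_bot hρ hne)
  have h3 := mul_le_mul_of_nonneg_left h2 hX0.le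
  refine h3.trans (le_of_eq ?_)
  field_simp

/-- a conjugate of `X` not normalized by `z` -/
theorem exists_cj_ne {X : Subgroup T} (hX : 2 ≤ Nat.card X) (hXt : X ≠ ⊤) {z : T} (hz : z ≠ 1) :
    ∃ h, cj X (z * h) ≠ cj X h := by
  by_contra hcon
  push Not at hcon
  let N : Subgroup T :=
    { carrier := {z | ∀ h, cj X (z * h) = cj X h}
      mul_mem' := by
        intro a b ha hb h
        rw [mul_assoc, ha, hb]
      one_mem' := by
        intro h
        rw [one_mul]
      inv_mem' := by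
        intro a ha h
        have := ha (a⁻¹ * h)
        rw [mul_inv_cancel_left] at this
        exact this.symm }
  have hN : N.Normal := by
    refine ⟨fun n hn g h => ?_⟩
    have h1 : cj X (g * n * g⁻¹ * h) = cj (cj X (n * (g⁻¹ * h))) g := by
      rw [cj_cj]
      congr 1
      group
    rw [h1, hn, cj_cj, mul_inv_cancel_left]
  have hzN : z ∈ N := hcon
  rcases hN.eq_bot_or_eq_top with h1 | h1
  · rw [h1, Subgroup.mem_bot] at hzN
    exact hz hzN
  · have hXn : X.Normal := by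
      refine ⟨fun n hn g => ?_⟩
      have hg : g ∈ N := h1 ▸ Subgroup.mem_top g
      have h2 : cj X (g * 1) = cj X 1 := hg 1
      rw [mul_one, cj_one] at h2
      rw [← h2]
      exact ⟨n, hn, rfl⟩
    rcases hXn.eq_bot_or_eq_top with h2 | h2
    · rw [h2, Subgroup.card_bot] at hX
      omega
    · exact hXt h2

set_option linter.unusedVariables false in
/-- **X1** : long root groups bound all character ratios. -/
theorem rat_of_lrg {T : Type u} [Group T] [Finite T] [IsSimpleGroup T] (hna : ∃ a b : T, a * b ≠ b * a)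
    {X : Subgroup T} (hX : 2 ≤ Nat.card X) (hXt : X ≠ ⊤) {c : ℕ} (h : LRG X c) {z : T} (hz : z ≠ 1) :
    Rat (Real.sqrt (1 / (Nat.card X : ℝ) + Real.sqrt (c * Real.logb 2 (Nat.card T) / (Nat.card X : ℝ)))) z := by
  classical
  have : Fintype T := Fintype.ofFinite T
  intro χ hχ hne
  have hre : ‖χ 1‖ = (χ 1).re := by
    obtain ⟨m, _, hm⟩ := Core.isIrr_apply_one hχ
    rw [hm, Complex.norm_natCast, Complex.natCast_re]
  rw [← hre]
  obtain ⟨k, hk⟩ := exists_cj_ne hX hXt hz
  have hX0 : (0 : ℝ) < Nat.card X := by exact_mod_cast Nat.card_pos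
  have hcard : (Fintype.card (cj X k) : ℝ) = Nat.card X := by
    rw [← Nat.card_eq_fintype_card, card_cj]
  refine Cfsg.Agent.H262.Rg.Ratio.norm_le_of_comm hχ (cj X k) z ?_
  set γ : ℝ := √(c * Real.logb 2 (Nat.card T) / (Nat.card X : ℝ)) with hγ
  have hγ0 : 0 ≤ γ := Real.sqrt_nonneg _
  have hcj : cj X (k⁻¹ * z * k) ≠ X := by
    intro he
    apply hk
    have h1 := congrArg (fun Y => cj Y k) he
    simp only [cj_cj] at h1
    rw [← h1]
    congr 1
    group
  have hw : ∀ w : cj X k, (χ (z * w * z⁻¹ * (w : T)⁻¹)).re ≤ (if w = 1 then ‖χ 1‖ else 0) + γ * ‖χ 1‖ := by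
    intro w
    by_cases hw1 : w = 1
    · rw [if_pos hw1, hw1]
      have h1 : z * ((1 : cj X k) : T) * z⁻¹ * ((1 : cj X k) : T)⁻¹ = 1 := by simp only [_root_.OneMemClass.coe_one, _root_.mul_one, _root_.mul_inv_cancel, _root_.inv_one]
      rw [h1, ← hre]
      have := mul_nonneg hγ0 (norm_nonneg (χ 1))
      linarith only [this]
    · rw [if_neg hw1, zero_add]
      refine (Complex.re_le_norm _).trans ?_
      have hx := mem_cj.1 w.2
      set x : T := k⁻¹ * w * k with hxdef
      have hx1 : x ≠ 1 := by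
        intro he
        apply hw1
        have h2 : (w : T) = k * x * k⁻¹ := by
          rw [hxdef]
          group
        apply Subtype.ext
        rw [h2, he]
        simp
      have e1 : χ (z * w * z⁻¹ * (w : T)⁻¹) = χ (x⁻¹ * ((k⁻¹ * z * k) * x * (k⁻¹ * z * k)⁻¹)) := by
        have h2 := Core.isIrr_isClassFunction hχ (z * w * z⁻¹ * (w : T)⁻¹) k⁻¹
        rw [← h2, Cfsg.Agent.H262.Rg.Ratio.irr_comm hχ x⁻¹]
        congr 1
        rw [hxdef]
        group
      rw [e1]
      refine norm_le_of_lev hX h hχ hne (h.lev (k⁻¹ * z * k) hcj x⁻¹ (X.inv_mem hx) (inv_ne_one.2 hx1) _ ⟨x, hx, rfl⟩ ?_)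
      intro he
      apply hx1
      exact (map_eq_one_iff _ (MulAut.conj (k⁻¹ * z * k)).injective).1 he
  refine (Finset.sum_le_sum fun w _ => hw w).trans (le_of_eq ?_)
  rw [Finset.sum_add_distrib, Finset.sum_ite_eq' Finset.univ (1 : cj X k), if_pos (Finset.mem_univ _), Finset.sum_const,
    Finset.card_univ, nsmul_eq_mul, hcard]
  field_simp

end Main

end Cfsg.Agent.H367.Rg.Gluck
end

-- part: H885/BS/OrthB
section
prune_inst 0x14010000
set_option linter.all false
open scoped Cfsg.Agent.FastGrp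

-- part: H885/BS/OrthA
section
/-!
# S5717: totally singular lines and Siegel elements

helper885. `TS Q u v` : `u`, `v` span a totally singular subspace; `sx Q u v : E Q` is
`y ↦ y + B(u, y) v - B(v, y) u`; existence of dual singular vectors and of singular vectors orthogonal to few vectors.
-/

set_option autoImplicit false

namespace Cfsg.Agent.H885.BS.Orth

open QuadraticMap Module Cfsg.Agent.LieClassical.OrthCore Cfsg.Agent.LieClassical.OrthTrans
  Cfsg.Agent.LieClassical.OrthFinite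

variable {F V : Type*} [Field F] [AddCommGroup V] [Module F V] {Q : QuadraticForm F V}

/-! ### totally singular pairs -/

/-- totally singular pairs -/
structure TS (Q : QuadraticForm F V) (u v : V) : Prop where
  l : Q u = 0
  r : Q v = 0
  o : polar Q u v = 0

theorem TS.symm {u v : V} (h : TS Q u v) : TS Q v u := ⟨h.r, h.l, by rw [polar_comm]; exact h.o⟩

theorem TS.self {u : V} (h : Q u = 0) : TS Q u u := ⟨h, h, polar_self_of_sing h⟩

theorem TS.o' {u v : V} (h : TS Q u v) : polar Q v u = 0 := h.symm.o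

theorem TS.ll {u v : V} (h : TS Q u v) : polar Q u u = 0 := polar_self_of_sing h.l

theorem TS.rr {u v : V} (h : TS Q u v) : polar Q v v = 0 := polar_self_of_sing h.r

theorem TS.smul {u v : V} (h : TS Q u v) (a b : F) : TS Q (a • u) (b • v) :=
  ⟨by rw [QuadraticMap.map_smul, h.l, smul_zero], by rw [QuadraticMap.map_smul, h.r, smul_zero],
    by rw [polar_smul_left, polar_smul_right, h.o, smul_zero, smul_zero]⟩

theorem TS.smul_right {u v : V} (h : TS Q u v) (b : F) : TS Q u (b • v) := by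
  have := h.smul 1 b
  rwa [one_smul] at this

theorem TS.add {u v w : V} (h : TS Q u v) (h' : TS Q u w) (h'' : TS Q v w) : TS Q u (v + w) :=
  ⟨h.l, by rw [Q_add, h.r, h'.r, h''.o, add_zero, add_zero], by rw [polar_add_right, h.o, h'.o, add_zero]⟩

/-- linear combinations -/
theorem TS.comb {u v : V} (h : TS Q u v) (a b c d : F) : TS Q (a • u + b • v) (c • u + d • v) := by
  refine ⟨?_, ?_, ?_⟩
  · rw [Q_add, QuadraticMap.map_smul, QuadraticMap.map_smul, h.l, h.r, polar_smul_left, polar_smul_right, h.o]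
    simp
  · rw [Q_add, QuadraticMap.map_smul, QuadraticMap.map_smul, h.l, h.r, polar_smul_left, polar_smul_right, h.o]
    simp
  · simp only [polar_add_left, polar_add_right, polar_smul_left, polar_smul_right, h.o, h.o', h.ll, h.rr]
    simp

theorem TS.map {u v : V} (h : TS Q u v) {g : V ≃ₗ[F] V} (hg : g ∈ O Q) : TS Q (g u) (g v) :=
  ⟨by rw [mem_O.1 hg, h.l], by rw [mem_O.1 hg, h.r], by rw [polar_map hg, h.o]⟩

/-- linearly independent pairs -/
def LI (F : Type*) {V : Type*} [Field F] [AddCommGroup V] [Module F V] (u v : V) : Prop :=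
  ∀ a b : F, a • u + b • v = 0 → a = 0 ∧ b = 0

/-- linearly independent triples -/
def LI3 (F : Type*) {V : Type*} [Field F] [AddCommGroup V] [Module F V] (u v w : V) : Prop :=
  ∀ a b c : F, a • u + b • v + c • w = 0 → a = 0 ∧ b = 0 ∧ c = 0

theorem LI.symm {u v : V} (h : LI F u v) : LI F v u := by
  intro a b hab
  obtain ⟨h1, h2⟩ := h b a (by rw [add_comm]; exact hab)
  exact ⟨h2, h1⟩

theorem LI.left_ne {u v : V} (h : LI F u v) : u ≠ 0 := by
  rintro rfl
  have := (h 1 0 (by simp)).1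
  exact one_ne_zero this

theorem LI.right_ne {u v : V} (h : LI F u v) : v ≠ 0 := h.symm.left_ne

theorem LI.of_not_mem {u v : V} (hu : u ≠ 0) (h : ∀ c : F, v ≠ c • u) : LI F u v := by
  intro a b hab
  have hb : b = 0 := by
    by_contra hb
    apply h (-(b⁻¹ * a))
    have h1 : v = b⁻¹ • (b • v) := by rw [smul_smul, inv_mul_cancel₀ hb, one_smul]
    have h2 : b • v = -(a • u) := by rw [eq_neg_iff_add_eq_zero, add_comm]; exact hab
    rw [h1, h2, smul_neg, smul_smul, neg_smul]
  refine ⟨?_, hb⟩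
  rw [hb, zero_smul, add_zero] at hab
  exact (smul_eq_zero.1 hab).resolve_right hu

theorem LI.comb {u v : V} (h : LI F u v) {a b c d : F} (hd : a * d - b * c ≠ 0) :
    LI F (a • u + b • v) (c • u + d • v) := by
  intro x y hxy
  have h1 : (x * a + y * c) • u + (x * b + y * d) • v = 0 := by
    rw [← hxy]
    module
  obtain ⟨h2, h3⟩ := h _ _ h1
  have hx : (a * d - b * c) * x = 0 := by linear_combination d * h2 - c * h3
  have hy : (a * d - b * c) * y = 0 := by linear_combination a * h3 - b * h2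
  exact ⟨(mul_eq_zero.1 hx).resolve_left hd, (mul_eq_zero.1 hy).resolve_left hd⟩

theorem LI.map {u v : V} (h : LI F u v) (g : V ≃ₗ[F] V) : LI F (g u) (g v) := by
  intro a b hab
  refine h a b (g.injective ?_)
  rw [map_add, map_smul, map_smul, hab, map_zero]

theorem LI3.lin {u v w : V} (h : LI3 F u v w) : LinearIndependent F ![u, v, w] := by
  rw [Fintype.linearIndependent_iff]
  intro g hg i
  rw [Fin.sum_univ_three] at hg
  obtain ⟨h1, h2, h3⟩ := h _ _ _ hg
  fin_cases i
  · exact h1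
  · exact h2
  · exact h3

theorem LI.lin {u v : V} (h : LI F u v) : LinearIndependent F ![u, v] := by
  rw [Fintype.linearIndependent_iff]
  intro g hg i
  rw [Fin.sum_univ_two] at hg
  obtain ⟨h1, h2⟩ := h _ _ hg
  fin_cases i
  · exact h1
  · exact h2

theorem LI3.l12 {u v w : V} (h : LI3 F u v w) : LI F u v := by
  intro a b hab
  obtain ⟨h1, h2, -⟩ := h a b 0 (by rw [zero_smul, add_zero, hab])
  exact ⟨h1, h2⟩

theorem LI3.swap {u v w : V} (h : LI3 F u v w) : LI3 F u w v := by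
  intro a b c habc
  obtain ⟨h1, h2, h3⟩ := h a c b (by rw [← habc]; abel)
  exact ⟨h1, h3, h2⟩

theorem LI3.of {u v w : V} (h : LI F u v) (hw : ∀ a b : F, w ≠ a • u + b • v) : LI3 F u v w := by
  intro a b c habc
  have hc : c = 0 := by
    by_contra hc
    apply hw (-(c⁻¹ * a)) (-(c⁻¹ * b))
    have h1 : w = c⁻¹ • (c • w) := by rw [smul_smul, inv_mul_cancel₀ hc, one_smul]
    have h2 : c • w = -(a • u + b • v) := by rw [eq_neg_iff_add_eq_zero, add_comm]; exact habc
    rw [h1, h2]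
    module
  rw [hc, zero_smul, add_zero] at habc
  obtain ⟨h1, h2⟩ := h a b habc
  exact ⟨h1, h2, hc⟩

/-! ### duals -/

theorem exists_dual {n : ℕ} (hQ : Nondeg Q) {v : Fin n → V} (hv : LinearIndependent F v) (c : Fin n → F) :
    ∃ y, ∀ i, polar Q (v i) y = c i := by
  let f : V →ₗ[F] (Fin n → F) := LinearMap.pi fun i => polarBilin Q (v i)
  have hf : LinearMap.range f = ⊤ := by
    by_contra hne
    obtain ⟨g, hg0, hg⟩ := Submodule.exists_le_ker_of_lt_top _ (lt_top_iff_ne_top.2 hne)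
    have h1 : ∀ y, ∑ i, g (Pi.single i 1) * polar Q (v i) y = 0 := by
      intro y
      have h2 : g (f y) = 0 := hg ⟨y, rfl⟩
      rw [LinearMap.pi_apply_eq_sum_univ g] at h2
      rw [← h2]
      refine Finset.sum_congr rfl fun i _ => ?_
      have h3 : (fun j => if i = j then (1 : F) else 0) = Pi.single i 1 := by
        funext j
        rw [Pi.single_apply]
        simp [eq_comm]
      rw [smul_eq_mul, mul_comm, h3]
      rfl
    have h2 : ∑ i, g (Pi.single i 1) • v i = 0 := by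
      apply hQ
      intro y
      have h3 : polarBilin Q (∑ i, g (Pi.single i 1) • v i) y = ∑ i, g (Pi.single i 1) * polar Q (v i) y := by
        simp [map_sum, LinearMap.sum_apply]
      exact h3.trans (h1 y)
    have h3 := Fintype.linearIndependent_iff.1 hv _ h2
    apply hg0
    ext i
    simpa using h3 i
  obtain ⟨y, hy⟩ := LinearMap.range_eq_top.1 hf c
  exact ⟨y, fun i => congrFun hy i⟩

/-- correction of a dual vector -/
theorem sing_corr {v y : V} (hv : Q v = 0) (h : polar Q v y = 1) : Q (y - Q y • v) = 0 := by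
  rw [sub_eq_add_neg, ← neg_smul, Q_add, QuadraticMap.map_smul, hv, polar_smul_right, polar_comm Q y v, h]
  simp

theorem exists_dual3 (hQ : Nondeg Q) {u v w : V} (h : LI3 F u v w) (huw : TS Q u w) (hvw : TS Q v w) :
    ∃ y, Q y = 0 ∧ polar Q u y = 0 ∧ polar Q v y = 0 ∧ polar Q w y = 1 := by
  obtain ⟨y, hy⟩ := exists_dual hQ h.lin ![0, 0, 1]
  have h0 : polar Q u y = 0 := hy 0
  have h1 : polar Q v y = 0 := hy 1
  have h2 : polar Q w y = 1 := hy 2
  refine ⟨y - Q y • w, sing_corr huw.r h2, ?_, ?_, ?_⟩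
  · rw [polar_sub_right, polar_smul_right, h0, huw.o, smul_zero, sub_zero]
  · rw [polar_sub_right, polar_smul_right, h1, hvw.o, smul_zero, sub_zero]
  · rw [polar_sub_right, polar_smul_right, h2, huw.rr, smul_zero, sub_zero]

/-- a vector with given products -/
theorem exists_dual2 (hQ : Nondeg Q) {u v : V} (h : LI F u v) (a b : F) :
    ∃ y, polar Q u y = a ∧ polar Q v y = b := by
  obtain ⟨y, hy⟩ := exists_dual hQ h.lin ![a, b]
  exact ⟨y, hy 0, hy 1⟩

/-- singular vectors orthogonal to `n` vectors, not multiples of a given vector -/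
theorem exists_sing_perp_ne [Finite F] {n : ℕ} (u : Fin n → V) (z : V) (hn : n + 4 ≤ finrank F V) :
    ∃ w : V, w ≠ 0 ∧ Q w = 0 ∧ (∀ i, polar Q (u i) w = 0) ∧ ∀ c : F, w ≠ c • z := by
  have : Module.Finite F V := Module.finite_of_finrank_pos (by omega)
  let f : V →ₗ[F] (Fin n → F) := LinearMap.pi fun i => polarBilin Q (u i)
  obtain ⟨W', hW'⟩ := Submodule.exists_isCompl (Submodule.span F {z})
  have h1 := LinearMap.finrank_range_add_finrank_ker f
  have h2 : Module.finrank F (LinearMap.range f) ≤ n := by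
    refine le_trans (Submodule.finrank_le _) ?_
    rw [Module.finrank_fin_fun]
  have h3 : finrank F (Submodule.span F {z}) ≤ 1 := (finrank_span_le_card ({z} : Set V)).trans (by simp)
  have h4 := Submodule.finrank_add_eq_of_isCompl hW'
  have h5 := Submodule.finrank_sup_add_finrank_inf_eq (LinearMap.ker f) W'
  have h6 := Submodule.finrank_le (LinearMap.ker f ⊔ W')
  obtain ⟨w, hw, hw0, hQw⟩ := exists_sing_mem (Q := Q) (LinearMap.ker f ⊓ W') (by omega)
  refine ⟨w, hw0, hQw, fun i => ?_, ?_⟩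
  · have := congrFun (LinearMap.mem_ker.1 hw.1) i
    simpa [f] using this
  · rintro c rfl
    have h7 : c • z ∈ Submodule.span F {z} ⊓ W' :=
      ⟨Submodule.smul_mem _ _ (Submodule.mem_span_singleton_self z), hw.2⟩
    rw [hW'.inf_eq_bot, Submodule.mem_bot] at h7
    exact hw0 h7

/-! ### Siegel elements -/

open Classical in
/-- the Siegel element `y ↦ y + B(u, y) v - B(v, y) u` -/
noncomputable def sx (Q : QuadraticForm F V) (u v : V) : ↥(E Q) :=
  if h : Q u = 0 ∧ polar Q u v = 0 then ⟨siegel Q u v h.1 h.2, siegel_mem_E h.1 h.2⟩ else 1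

theorem sx_apply {u v : V} (h : TS Q u v) (y : V) :
    (sx Q u v : V ≃ₗ[F] V) y = y + polar Q u y • v - polar Q v y • u := by
  unfold sx
  rw [dif_pos ⟨h.l, h.o⟩]
  show siegel Q u v h.l h.o y = _
  rw [siegel_apply, h.r, zero_mul, zero_smul, sub_zero]

theorem E_ext {g h : ↥(E Q)} (H : ∀ y, (g : V ≃ₗ[F] V) y = (h : V ≃ₗ[F] V) y) : g = h :=
  Subtype.ext (LinearEquiv.ext H)

theorem sx_add {u v w : V} (h : TS Q u v) (h' : TS Q u w) (h'' : TS Q v w) :
    sx Q u v * sx Q u w = sx Q u (v + w) := by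
  refine E_ext fun y => ?_
  show (sx Q u v : V ≃ₗ[F] V) ((sx Q u w : V ≃ₗ[F] V) y) = _
  rw [sx_apply h, sx_apply h', sx_apply (h.add h' h'')]
  simp only [polar_add_left, polar_add_right, polar_sub_right, polar_smul_right, h.ll, h.o', h'.o, h''.o]
  module

theorem sx_zero {u : V} (h : Q u = 0) : sx Q u 0 = 1 := by
  have hz : TS Q u 0 := ⟨h, QuadraticMap.map_zero Q, polar_zero_right _ _⟩
  refine E_ext fun y => ?_
  rw [sx_apply hz, polar_zero_left]
  simp

theorem sx_inv {u v : V} (h : TS Q u v) : (sx Q u v)⁻¹ = sx Q u (-v) := by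
  have h' : TS Q u (-v) := by
    have := h.smul_right (-1)
    rwa [neg_one_smul] at this
  have h'' : TS Q v (-v) := by
    have := (TS.self h.r).smul_right (-1)
    rwa [neg_one_smul] at this
  rw [inv_eq_iff_mul_eq_one, sx_add h h' h'', add_neg_cancel, sx_zero h.l]

theorem sx_conj (g : ↥(E Q)) {u v : V} (h : TS Q u v) :
    g * sx Q u v * g⁻¹ = sx Q ((g : V ≃ₗ[F] V) u) ((g : V ≃ₗ[F] V) v) := by
  have hg : (g : V ≃ₗ[F] V) ∈ O Q := E_le_O g.2
  refine E_ext fun y => ?_
  obtain ⟨y, rfl⟩ := (g : V ≃ₗ[F] V).surjective y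
  have h1 : ((g * sx Q u v * g⁻¹ : ↥(E Q)) : V ≃ₗ[F] V) ((g : V ≃ₗ[F] V) y) =
      (g : V ≃ₗ[F] V) ((sx Q u v : V ≃ₗ[F] V) y) := by
    show (g : V ≃ₗ[F] V) ((sx Q u v : V ≃ₗ[F] V) ((g : V ≃ₗ[F] V).symm ((g : V ≃ₗ[F] V) y))) = _
    rw [LinearEquiv.symm_apply_apply]
  rw [h1, sx_apply h, sx_apply (h.map hg), polar_map hg, polar_map hg]
  simp only [map_add, map_sub, map_smul]

theorem sx_comb {u v : V} (h : TS Q u v) (a b c d : F) :
    sx Q (a • u + b • v) (c • u + d • v) = sx Q u ((a * d - b * c) • v) := by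
  refine E_ext fun y => ?_
  rw [sx_apply (h.comb a b c d), sx_apply (h.smul_right _)]
  simp only [polar_add_left, polar_smul_left, smul_eq_mul]
  module

/-- the difference determines the pair -/
theorem sub_of_sx_eq (hQ : Nondeg Q) {u v u' v' : V} (h : TS Q u v) (h' : TS Q u' v') (hl : LI F u' v')
    (he : sx Q u v = sx Q u' v') : (∃ a b : F, u' = a • u + b • v) ∧ ∃ a b : F, v' = a • u + b • v := by
  have key : ∀ y, polar Q u' y • v' - polar Q v' y • u' = polar Q u y • v - polar Q v y • u := by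
    intro y
    have h1 := sx_apply h y
    rw [he, sx_apply h', add_sub_assoc, add_sub_assoc] at h1
    exact add_left_cancel h1
  constructor
  · obtain ⟨y, h1, h2⟩ := exists_dual2 hQ hl 0 (-1)
    have h3 := key y
    rw [h1, h2, zero_smul, zero_sub, neg_smul, one_smul, neg_neg] at h3
    exact ⟨-polar Q v y, polar Q u y, by rw [h3]; module⟩
  · obtain ⟨y, h1, h2⟩ := exists_dual2 hQ hl 1 0
    have h3 := key y
    rw [h1, h2, zero_smul, sub_zero, one_smul] at h3
    exact ⟨-polar Q v y, polar Q u y, by rw [h3]; module⟩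

/-- `sx u` is injective modulo `u` -/
theorem sx_inj (hQ : Nondeg Q) {u v w : V} (h : TS Q u v) (h' : TS Q u w) (hu : u ≠ 0) (he : sx Q u v = sx Q u w) :
    ∃ c : F, v - w = c • u := by
  obtain ⟨y, hy⟩ := hQ.exists_polar_eq hu 1
  have h1 := sx_apply h y
  rw [he, sx_apply h', add_sub_assoc, add_sub_assoc] at h1
  have h2 := add_left_cancel h1
  rw [hy, one_smul, one_smul] at h2
  exact ⟨polar Q v y - polar Q w y, by
    rw [sub_smul, sub_eq_sub_iff_add_eq_add]
    rw [sub_eq_sub_iff_add_eq_add] at h2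
    rw [← h2, add_comm]⟩

end Cfsg.Agent.H885.BS.Orth
end

-- part: H885/BS/OrthB
section
/-!
# S5717: long root groups of the orthogonal groups

helper885. `π : E Q →* T` surjective with central kernel, `dim V ≥ 7`, `F` finite: the groups
`XX π u v = {π (sx u (t v)) | t}` of the totally singular lines are long root groups: `lrg : LRG (XX π u v) 4`,
`card_XX`.
-/

set_option autoImplicit false

namespace Cfsg.Agent.H885.BS.Orth

open QuadraticMap Module Cfsg.Agent.LieClassical.OrthCore Cfsg.Agent.LieClassical.OrthTrans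
  Cfsg.Agent.LieClassical.OrthFinite Cfsg.Agent.H141.Rg Cfsg.Agent.H367.Rg.Gluck

variable {F V : Type*} [Field F] [AddCommGroup V] [Module F V] {Q : QuadraticForm F V}
variable {T : Type*} [Group T] (π : ↥(E Q) →* T)

/-- the group of the line `⟨u, v⟩` -/
def XX (u v : V) : Subgroup T := Subgroup.closure {z | ∃ t : F, z = π (sx Q u (t • v))}

variable {π}

theorem mem_XX {u v : V} (h : TS Q u v) {z : T} : z ∈ XX π u v ↔ ∃ t : F, z = π (sx Q u (t • v)) := by
  constructor
  · intro hz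
    unfold XX at hz
    induction hz using Subgroup.closure_induction with
    | mem x hx => exact hx
    | one => exact ⟨0, by rw [zero_smul, sx_zero h.l, map_one]⟩
    | mul x y _ _ hx hy =>
      obtain ⟨s, rfl⟩ := hx
      obtain ⟨t, rfl⟩ := hy
      refine ⟨s + t, ?_⟩
      rw [← map_mul, sx_add (h.smul_right s) (h.smul_right t) ((TS.self h.r).smul s t), add_smul]
    | inv x _ hx =>
      obtain ⟨s, rfl⟩ := hx
      exact ⟨-s, by rw [← map_inv, sx_inv (h.smul_right s), neg_smul]⟩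
  · rintro ⟨t, rfl⟩
    exact Subgroup.subset_closure ⟨t, rfl⟩

theorem mem_XX_self {u v : V} (h : TS Q u v) : π (sx Q u v) ∈ XX π u v :=
  (mem_XX h).2 ⟨1, by rw [one_smul]⟩

theorem cj_XX {u v : V} (h : TS Q u v) (g : ↥(E Q)) :
    cj (XX π u v) (π g) = XX π ((g : V ≃ₗ[F] V) u) ((g : V ≃ₗ[F] V) v) := by
  have hg : (g : V ≃ₗ[F] V) ∈ O Q := E_le_O g.2
  ext z
  rw [mem_cj, mem_XX h, mem_XX (h.map hg)]
  constructor
  · rintro ⟨t, ht⟩
    refine ⟨t, ?_⟩
    have h1 : z = π g * π (sx Q u (t • v)) * (π g)⁻¹ := by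
      rw [← ht]
      group
    rw [h1, ← map_inv, ← map_mul, ← map_mul, sx_conj g (h.smul_right t), map_smul]
  · rintro ⟨t, ht⟩
    refine ⟨t, ?_⟩
    rw [ht, ← map_smul, ← sx_conj g (h.smul_right t), map_mul, map_mul, map_inv]
    group

theorem XX_comb {u v : V} (h : TS Q u v) {a b c d : F} (hd : a * d - b * c ≠ 0) :
    XX π (a • u + b • v) (c • u + d • v) = XX π u v := by
  ext z
  rw [mem_XX (h.comb a b c d), mem_XX h]
  have key : ∀ t : F, sx Q (a • u + b • v) (t • (c • u + d • v)) = sx Q u (((a * d - b * c) * t) • v) := by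
    intro t
    rw [smul_add, smul_smul, smul_smul, sx_comb h]
    congr 2
    ring
  constructor
  · rintro ⟨t, rfl⟩
    exact ⟨_, by rw [key]⟩
  · rintro ⟨t, rfl⟩
    refine ⟨(a * d - b * c)⁻¹ * t, ?_⟩
    rw [key, ← mul_assoc, mul_inv_cancel₀ hd, one_mul]

theorem XX_symm {u v : V} (h : TS Q u v) : XX π v u = XX π u v := by
  have := XX_comb (π := π) h (a := 0) (b := 1) (c := 1) (d := 0) (by simp)
  simpa using this

theorem XX_smul {u v : V} (h : TS Q u v) {d : F} (hd : d ≠ 0) : XX π u (d • v) = XX π u v := by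
  have := XX_comb (π := π) h (a := 1) (b := 0) (c := 0) (d := d) (by simpa using hd)
  simpa using this

theorem LI.det {u v : V} {a b c d : F} (h : LI F (a • u + b • v) (c • u + d • v)) :
    a * d - b * c ≠ 0 := by
  intro hd
  have h1 : d • (a • u + b • v) + (-b) • (c • u + d • v) = (a * d - b * c) • u := by module
  have h2 : (-c) • (a • u + b • v) + a • (c • u + d • v) = (a * d - b * c) • v := by module
  rw [hd, zero_smul] at h1 h2
  obtain ⟨-, h3⟩ := h _ _ h1
  obtain ⟨-, h4⟩ := h _ _ h2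
  rw [neg_eq_zero] at h3
  apply h.left_ne
  rw [h3, h4, zero_smul, zero_smul, add_zero]

theorem XX_eq_of_mem {u v u' v' : V} (h : TS Q u v) (hl' : LI F u' v') (h1 : ∃ a b : F, u' = a • u + b • v)
    (h2 : ∃ c d : F, v' = c • u + d • v) : XX π u' v' = XX π u v := by
  obtain ⟨a, b, rfl⟩ := h1
  obtain ⟨c, d, rfl⟩ := h2
  exact XX_comb h hl'.det

section Cen

variable [Finite F] (hQ : Nondeg Q) (h7 : 7 ≤ finrank F V) (hk : π.ker ≤ Subgroup.center ↥(E Q))

include hQ h7 hk

theorem pi_inj {u v u' v' : V} (h : TS Q u v) (h' : TS Q u' v') (he : π (sx Q u v) = π (sx Q u' v')) :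
    sx Q u v = sx Q u' v' := by
  have hG : Good Q := good_of_finite hQ (by omega)
  set z : ↥(E Q) := (sx Q u' v')⁻¹ * sx Q u v with hz
  have h1 : z ∈ Subgroup.center ↥(E Q) := by
    apply hk
    rw [MonoidHom.mem_ker, hz, map_mul, map_inv, he, inv_mul_cancel]
  obtain ⟨c, hc⟩ := ClassicalGeometry.OrthAut1.center_scalar hG h1
  obtain ⟨y, hy0, hy⟩ := exists_perp_ne (Q := Q) ![u, v, u', v'] (by omega)
  have e1 : polar Q u y = 0 := hy 0
  have e2 : polar Q v y = 0 := hy 1
  have e3 : polar Q u' y = 0 := hy 2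
  have e4 : polar Q v' y = 0 := hy 3
  have h2 : sx Q u v = sx Q u' v' * z := by rw [hz]; group
  have h3 : (sx Q u v : V ≃ₗ[F] V) y = y := by
    rw [sx_apply h, e1, e2]
    simp
  have h4 : (sx Q u v : V ≃ₗ[F] V) y = c • y := by
    rw [h2]
    show (sx Q u' v' : V ≃ₗ[F] V) ((z : V ≃ₗ[F] V) y) = _
    rw [hc, map_smul, sx_apply h', e3, e4]
    simp
  have h5 : c = 1 := by
    have h6 : (c - 1) • y = 0 := by
      rw [sub_smul, one_smul, ← h4, h3, sub_self]
    rcases smul_eq_zero.1 h6 with h6 | h6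
    · exact sub_eq_zero.1 h6
    · exact absurd h6 hy0
  have h6 : z = 1 := E_ext fun y => by
    rw [hc, h5, one_smul]
    rfl
  rw [h2, h6, mul_one]

theorem sub_smul_mem {u v w : V} (h : TS Q u v) (h' : TS Q u w) (hu : u ≠ 0) (he : π (sx Q u v) = π (sx Q u w)) :
    ∃ c : F, v - w = c • u := sx_inj hQ h h' hu (pi_inj hQ h7 hk h h' he)

theorem param_inj {u v : V} (h : TS Q u v) (hl : LI F u v) {s t : F} (he : π (sx Q u (s • v)) = π (sx Q u (t • v))) :
    s = t := by
  obtain ⟨c, hc⟩ := sub_smul_mem hQ h7 hk (h.smul_right s) (h.smul_right t) hl.left_ne he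
  have h2 := (hl (-c) (s - t) (by rw [sub_smul, hc]; module)).2
  exact sub_eq_zero.1 h2

theorem card_XX {u v : V} (h : TS Q u v) (hl : LI F u v) : Nat.card (XX π u v) = Nat.card F := by
  symm
  refine Nat.card_congr (Equiv.ofBijective (fun t : F => (⟨π (sx Q u (t • v)), (mem_XX h).2 ⟨t, rfl⟩⟩ : XX π u v)) ⟨?_, ?_⟩)
  · intro s t hst
    exact param_inj hQ h7 hk h hl (congrArg Subtype.val hst)
  · rintro ⟨z, hz⟩
    obtain ⟨t, rfl⟩ := (mem_XX h).1 hz
    exact ⟨t, rfl⟩

theorem XX_ti {u v u' v' : V} (h : TS Q u v) (h' : TS Q u' v') (hl' : LI F u' v')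
    (hne : XX π u v ≠ XX π u' v') : XX π u v ⊓ XX π u' v' = ⊥ := by
  rw [eq_bot_iff]
  rintro z ⟨hz, hz'⟩
  rw [Subgroup.mem_bot]
  by_contra hz1
  apply hne
  obtain ⟨t, ht⟩ := (mem_XX h).1 hz
  obtain ⟨t', ht'⟩ := (mem_XX h').1 hz'
  have h0' : t' ≠ 0 := by
    rintro rfl
    apply hz1
    rw [ht', zero_smul, sx_zero h'.l, map_one]
  have hl2 : LI F u' (t' • v') := by
    have := hl'.comb (a := 1) (b := 0) (c := 0) (d := t') (by simpa using h0')
    simpa using this
  have he := pi_inj hQ h7 hk (h.smul_right t) (h'.smul_right t') (by rw [← ht, ← ht'])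
  obtain ⟨⟨a, b, h1⟩, ⟨c, d, h2⟩⟩ := sub_of_sx_eq hQ (h.smul_right t) (h'.smul_right t') hl2 he
  rw [smul_smul] at h1 h2
  rw [← XX_smul h' h0']
  exact (XX_eq_of_mem h hl2 ⟨_, _, h1⟩ ⟨_, _, h2⟩).symm

/-- equal lines with a common point -/
theorem mem_of_XX_eq {u v w : V} (h : TS Q u v) (h' : TS Q u w) (hu : u ≠ 0) (he : XX π u v = XX π u w) :
    ∃ c t : F, w = c • u + t • v := by
  have h1 : π (sx Q u w) ∈ XX π u v := by
    rw [he]
    exact mem_XX_self h'
  obtain ⟨t, ht⟩ := (mem_XX h).1 h1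
  obtain ⟨c, hc⟩ := sub_smul_mem hQ h7 hk h' (h.smul_right t) hu ht
  exact ⟨c, t, by rw [← hc]; abel⟩

end Cen

/-! ### steps -/

variable (π) in
/-- two lines in a totally singular plane -/
def R (A B : Subgroup T) : Prop :=
  ∃ u v w : V, LI3 F u v w ∧ TS Q u v ∧ TS Q u w ∧ TS Q v w ∧ A = XX π u v ∧ B = XX π u w

theorem exists_step (hQ : Nondeg Q) {u v w : V} (h3 : LI3 F u v w) (huv : TS Q u v) (huw : TS Q u w) (hvw : TS Q v w) :
    ∃ g : ↥(E Q), (g : V ≃ₗ[F] V) u = u ∧ (g : V ≃ₗ[F] V) v = w := by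
  obtain ⟨f, f0, f1, f2, f3⟩ := exists_dual3 hQ h3.swap huv hvw.symm
  obtain ⟨k, k0, k1, k2, k3⟩ := exists_dual3 hQ h3 huw hvw
  have f1' : polar Q f u = 0 := by rw [polar_comm]; exact f1
  have f2' : polar Q f w = 0 := by rw [polar_comm]; exact f2
  have f3' : polar Q f v = 1 := by rw [polar_comm]; exact f3
  have k1' : polar Q k u = 0 := by rw [polar_comm]; exact k1
  have k2' : polar Q k v = 0 := by rw [polar_comm]; exact k2
  have k3' : polar Q k w = 1 := by rw [polar_comm]; exact k3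
  have hfw : TS Q f w := ⟨f0, huw.r, f2'⟩
  have hkv : TS Q k (-v) := by
    have := (⟨k0, huv.r, k2'⟩ : TS Q k v).smul_right (-1)
    rwa [neg_one_smul] at this
  refine ⟨sx Q k (-v) * sx Q f w, ?_, ?_⟩
  · show (sx Q k (-v) : V ≃ₗ[F] V) ((sx Q f w : V ≃ₗ[F] V) u) = u
    rw [sx_apply hfw, f1', huw.o', zero_smul, zero_smul, add_zero, sub_zero, sx_apply hkv, k1', polar_neg_left, huv.o']
    simp
  · show (sx Q k (-v) : V ≃ₗ[F] V) ((sx Q f w : V ≃ₗ[F] V) v) = w
    rw [sx_apply hfw, f3', hvw.o', zero_smul, one_smul, sub_zero, sx_apply hkv, polar_add_right, k2', k3',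
      polar_neg_left, polar_add_right, huv.rr, hvw.o]
    simp

theorem R.conj (hQ : Nondeg Q) {A B : Subgroup T} (h : R π A B) : ∃ g : T, B = cj A g := by
  obtain ⟨u, v, w, h3, huv, huw, hvw, rfl, rfl⟩ := h
  obtain ⟨g, hu, hv⟩ := exists_step hQ h3 huv huw hvw
  exact ⟨π g, by rw [cj_XX huv, hu, hv]⟩

variable (π) in
/-- chains -/
def Ch : ℕ → Subgroup T → Subgroup T → Prop
  | 0, A, B => A = B
  | n + 1, A, B => ∃ C, R π A C ∧ Ch n C B

theorem Ch.trans : ∀ {n m : ℕ} {A B C : Subgroup T}, Ch π n A B → Ch π m B C → Ch π (n + m) A C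
  | 0, m, A, B, C, h, h' => by
    have h0 : A = B := h
    rw [zero_add, h0]
    exact h'
  | n + 1, m, A, B, C, h, h' => by
    obtain ⟨D, h1, h2⟩ := h
    rw [show n + 1 + m = (n + m) + 1 by omega]
    exact ⟨D, h1, h2.trans h'⟩

theorem Ch.conj (hQ : Nondeg Q) : ∀ {n : ℕ} {A B : Subgroup T}, Ch π n A B → ∃ g : T, B = cj A g
  | 0, A, B, h => ⟨1, by rw [cj_one]; exact h.symm⟩
  | n + 1, A, B, h => by
    obtain ⟨C, h1, h2⟩ := h
    obtain ⟨g, rfl⟩ := h1.conj hQ
    obtain ⟨k, rfl⟩ := h2.conj hQ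
    exact ⟨k * g, by rw [cj_cj]⟩

theorem Ch.path : ∀ {n : ℕ} {A B : Subgroup T}, Ch π n A B →
    ∃ p : ℕ → Subgroup T, p 0 = A ∧ p n = B ∧ ∀ i < n, R π (p i) (p (i + 1))
  | 0, A, B, h => ⟨fun _ => A, rfl, h, fun i hi => absurd hi (Nat.not_lt_zero i)⟩
  | n + 1, A, B, h => by
    obtain ⟨C, h1, h2⟩ := h
    obtain ⟨p, p0, pn, hp⟩ := h2.path
    refine ⟨fun i => Nat.casesOn i A p, rfl, pn, ?_⟩
    intro i hi
    cases i with
    | zero =>
      show R π A (p 0)
      rw [p0]
      exact h1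
    | succ i => exact hp i (by omega)

section Conn

variable [Finite F] (hQ : Nondeg Q) (h7 : 7 ≤ finrank F V)

include h7 in
theorem com_pt {u v v' : V} (h : TS Q u v) (hl : LI F u v) (h' : TS Q u v') (hl' : LI F u v') :
    ∃ l ≤ 2, Ch π l (XX π u v) (XX π u v') := by
  by_cases hm : ∃ a b : F, v' = a • u + b • v
  · refine ⟨0, by norm_num, ?_⟩
    exact (XX_eq_of_mem h hl' ⟨1, 0, by simp⟩ hm).symm
  push Not at hm
  by_cases ho : polar Q v v' = 0
  · refine ⟨1, by norm_num, _, ⟨u, v, v', LI3.of hl hm, h, h', ⟨h.r, h'.r, ho⟩, rfl, rfl⟩, rfl⟩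
  · obtain ⟨w, hw0, hw, hwp, hwu⟩ := exists_sing_perp_ne (Q := Q) ![u, v, v'] u (by omega)
    have e1 : polar Q u w = 0 := hwp 0
    have e2 : polar Q v w = 0 := hwp 1
    have e3 : polar Q v' w = 0 := hwp 2
    have huw : TS Q u w := ⟨h.l, hw, e1⟩
    have n1 : LI3 F u v w := by
      refine LI3.of hl fun a b hab => hwu a ?_
      have hb : b = 0 := by
        rw [hab, polar_add_right, polar_smul_right, polar_smul_right, h'.o', polar_comm Q v' v, smul_zero, zero_add] at e3
        exact (mul_eq_zero.1 e3).resolve_right ho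
      rw [hab, hb, zero_smul, add_zero]
    have n2 : LI3 F u v' w := by
      refine LI3.of hl' fun a b hab => hwu a ?_
      have hb : b = 0 := by
        rw [hab, polar_add_right, polar_smul_right, polar_smul_right, h.o', smul_zero, zero_add] at e2
        exact (mul_eq_zero.1 e2).resolve_right ho
      rw [hab, hb, zero_smul, add_zero]
    refine ⟨2, le_refl 2, _, ⟨u, v, w, n1, h, huw, ⟨h.r, hw, e2⟩, rfl, rfl⟩, _,
      ⟨u, w, v', n2.swap, huw, h', ⟨hw, h'.r, by rw [polar_comm]; exact e3⟩, rfl, rfl⟩, rfl⟩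

include h7 in
theorem conn {u v u' v' : V} (h : TS Q u v) (hl : LI F u v) (h' : TS Q u' v') (hl' : LI F u' v') :
    ∃ l ≤ 4, Ch π l (XX π u v) (XX π u' v') := by
  -- a basis `x`, `y` of the second line with `x` orthogonal to `u`
  obtain ⟨x, y, hxy, hlxy, hX, hux⟩ : ∃ x y : V, TS Q x y ∧ LI F x y ∧ XX π x y = XX π u' v' ∧ polar Q u x = 0 := by
    by_cases h0 : polar Q u u' = 0
    · exact ⟨u', v', h', hl', rfl, h0⟩
    · have hd : polar Q u v' * 0 - (-polar Q u u') * 1 ≠ 0 := by simpa using h0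
      refine ⟨_, _, h'.comb (polar Q u v') (-polar Q u u') 1 0, hl'.comb hd, XX_comb h' hd, ?_⟩
      rw [polar_add_right, polar_smul_right, polar_smul_right, smul_eq_mul, smul_eq_mul]
      ring
  rw [← hX]
  by_cases hm : ∃ c : F, x = c • u
  · obtain ⟨c, rfl⟩ := hm
    have hc : c ≠ 0 := by
      rintro rfl
      exact hlxy.left_ne (zero_smul _ _)
    have hy : TS Q u y := by
      have := hxy.smul c⁻¹ 1
      rwa [smul_smul, inv_mul_cancel₀ hc, one_smul, one_smul] at this
    have hly : LI F u y := by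
      have := hlxy.comb (a := c⁻¹) (b := 0) (c := 0) (d := 1) (by simpa using inv_ne_zero hc)
      simpa [smul_smul, inv_mul_cancel₀ hc] using this
    have h1 : XX π (c • u) y = XX π u y := by
      have := XX_comb (π := π) hy (a := c) (b := 0) (c := 0) (d := 1) (by simpa using hc)
      simpa using this
    rw [h1]
    obtain ⟨l, h2, h3⟩ := com_pt (π := π) h7 h hl hy hly
    exact ⟨l, by omega, h3⟩
  · push Not at hm
    have hux' : TS Q u x := ⟨h.l, hxy.l, hux⟩
    have hlux : LI F u x := LI.of_not_mem hl.left_ne hm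
    obtain ⟨l, h2, h3⟩ := com_pt (π := π) h7 h hl hux' hlux
    obtain ⟨l', h4, h5⟩ := com_pt (π := π) h7 hux'.symm hlux.symm hxy hlxy
    rw [XX_symm hux'] at h5
    exact ⟨l + l', by omega, h3.trans h5⟩

include hQ h7 in
theorem exists_conj {u v u' v' : V} (h : TS Q u v) (hl : LI F u v) (h' : TS Q u' v') (hl' : LI F u' v') :
    ∃ g : T, XX π u' v' = cj (XX π u v) g := by
  obtain ⟨l, -, h1⟩ := conn (π := π) h7 h hl h' hl'
  exact h1.conj hQ

end Conn

end Cfsg.Agent.H885.BS.Orth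
end
end
end
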